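import Cfsg.Agent.H256.War.Fam
import Cfsg.Agent.H78.Pw.Base

/-!
Glue for S2465: two `r`-elements (`r` the characteristic) give `All n G` for all `n` prime to `r`.

* `all_of_pp`, `all_classical`, `all_exceptional`.
-/

set_option autoImplicit false

namespace Cfsg.Agent.H256.War

open Cfsg Cfsg.Agent.H78.Pw
open Cfsg.Agent.H130.War (PP)

theorem all_of_pp {G : Type*} [Group G] {r : ℕ} (hr : r.Prime) (h : PP r G) {n : ℕ} (hn : ¬ r ∣ n) : All n G := by
  have key : ∀ x : G, (∃ a, x ^ r ^ a = 1) → (orderOf x).Coprime n := by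
    rintro x ⟨a, ha⟩
    exact Nat.Coprime.of_dvd_left (orderOf_dvd_of_pow_eq_one ha)
      (Nat.Coprime.pow_left a ((Nat.Prime.coprime_iff_not_dvd hr).2 hn))
  intro g
  obtain ⟨x, y, e, hx, hy⟩ := h g
  exact ⟨x, y, e, key x hx, key y hy⟩

variable {p : ℕ} {G : Type*} [Group G] [IsSimpleGroup G]

theorem all_classical (hp : p.Prime) (hG : IsPSLChar p G ∨ IsPSpChar p G ∨ IsPSUChar p G ∨ IsPOmegaOddChar p G ∨
    IsPOmegaPlusChar p G ∨ IsPOmegaMinusChar p G) {n : ℕ} (hn : ¬ p ∣ n) : All n G :=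
  all_of_pp hp (pp_classical hG) hn

theorem all_exceptional (hp : p.Prime) (hG : IsExceptionalChevChar p G) {n : ℕ} (hn : ¬ p ∣ n) : All n G :=
  all_of_pp hp (pp_exceptional hG) hn

end Cfsg.Agent.H256.War
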